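import Mathlib
import Cfsg.Agent.Lib.UnitaryBasic

/-!
# Norms in a cyclic semilinear involutory algebra and conjugacy in the unitary group

For an involutory field automorphism `σ ≠ 1` of a finite field `K` and every `N`, the class of `X`
modulo `X ^ N - 1` is a norm `p * p^σ`. Consequently, elements of `GU` conjugate in `GL` are
conjugate in `GU`.
-/

set_option autoImplicit false
set_option linter.unusedSectionVars false

namespace CfsgLib.UnitaryConj

open Polynomial

/-- In a finite reduced ring in which `2` is a unit, `x² - νy²` takes every value. -/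
theorem quad {R : Type*} [CommRing R] [Finite R] [IsReduced R] (h2 : IsUnit (2 : R)) {ν : R}
    (hν : IsUnit ν) (b : R) : ∃ x y : R, x * x - ν * (y * y) = b := by
  classical
  let e := (IsArtinianRing.equivPi R).toRingEquiv
  have h : ∀ I : MaximalSpectrum R, ∃ x y : R ⧸ I.asIdeal,
      x * x - Ideal.Quotient.mk _ ν * (y * y) = Ideal.Quotient.mk _ b := by
    intro I
    haveI : Finite (R ⧸ I.asIdeal) := Finite.of_surjective _ Ideal.Quotient.mk_surjective
    letI := Ideal.Quotient.field I.asIdeal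
    letI : Fintype (R ⧸ I.asIdeal) := Fintype.ofFinite _
    have hν' : Ideal.Quotient.mk I.asIdeal ν ≠ 0 := (hν.map _).ne_zero
    have hchar : ringChar (R ⧸ I.asIdeal) ≠ 2 := by
      intro hc
      have h0 : ((2 : ℕ) : R ⧸ I.asIdeal) = 0 := by rw [← hc]; exact ringChar.Nat.cast_ringChar
      have := (h2.map (Ideal.Quotient.mk I.asIdeal)).ne_zero
      rw [map_ofNat] at this
      exact this (by exact_mod_cast h0)
    obtain ⟨x, y, hxy⟩ := FiniteField.exists_root_sum_quadratic
      (f := (X : (R ⧸ I.asIdeal)[X]) ^ 2 - C (Ideal.Quotient.mk _ b))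
      (g := C (-Ideal.Quotient.mk I.asIdeal ν) * X ^ 2)
      (degree_X_pow_sub_C (by norm_num) _) (by rw [degree_C_mul_X_pow 2 (neg_ne_zero.mpr hν')]; rfl)
      (by rw [← Nat.odd_iff]; exact Nat.odd_iff.mpr (FiniteField.odd_card_of_char_ne_two hchar))
    refine ⟨x, y, ?_⟩
    simp only [eval_sub, eval_pow, eval_X, eval_C, eval_mul] at hxy
    linear_combination hxy
  choose x y hxy using h
  refine ⟨e.symm x, e.symm y, e.injective ?_⟩
  rw [map_sub, map_mul, map_mul, map_mul, RingEquiv.apply_symm_apply, RingEquiv.apply_symm_apply]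
  ext I
  exact hxy I

variable {K : Type*} [Field K] [Fintype K] {σ : K →+* K}

/-- The separable case. -/
theorem norm_sep (hσ2 : ∀ x, σ (σ x) = x) (hne : ∃ a, σ a ≠ a) (h2 : (2 : K) ≠ 0) {N : ℕ}
    (hN : (N : K) ≠ 0) : ∃ p : K[X], X ^ N - 1 ∣ p * p.map σ - X := by
  classical
  obtain ⟨a, ha⟩ := hne
  have hN0 : N ≠ 0 := fun h => hN (by rw [h, Nat.cast_zero])
  set f : K[X] := X ^ N - 1 with hf
  have hmon : f.Monic := by rw [hf, ← C_1]; exact monic_X_pow_sub_C _ hN0
  have hsep : f.Separable := by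
    rw [hf, ← C_1]; exact separable_X_pow_sub_C _ hN one_ne_zero
  haveI : IsReduced (AdjoinRoot f) := by
    refine (Ideal.isRadical_iff_quotient_reduced _).mp ?_
    rw [← isRadical_iff_span_singleton]
    exact hsep.squarefree.isRadical
  haveI : Module.Finite K (AdjoinRoot f) := hmon.finite_adjoinRoot
  haveI : Finite (AdjoinRoot f) := Module.finite_of_finite K
  have hroot : (f.eval₂ ((AdjoinRoot.of f).comp σ) (AdjoinRoot.root f)) = 0 := by
    have := AdjoinRoot.eval₂_root f
    rw [hf] at this ⊢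
    simpa using this
  let τ : AdjoinRoot f →+* AdjoinRoot f :=
    AdjoinRoot.lift ((AdjoinRoot.of f).comp σ) (AdjoinRoot.root f) hroot
  have hτ : ∀ p : K[X], τ (AdjoinRoot.mk f p) = AdjoinRoot.mk f (p.map σ) := by
    intro p
    rw [AdjoinRoot.lift_mk, ← eval₂_map, ← AdjoinRoot.aeval_eq, aeval_def, AdjoinRoot.algebraMap_eq]
  let R : Subring (AdjoinRoot f) := RingHom.eqLocus τ (RingHom.id _)
  haveI : IsReduced R := ⟨fun x hx => Subtype.ext (IsReduced.eq_zero (x : AdjoinRoot f) (hx.map R.subtype))⟩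
  have hof : ∀ c : K, σ c = c → AdjoinRoot.of f c ∈ R := by
    intro c hc
    show τ (AdjoinRoot.of f c) = AdjoinRoot.of f c
    rw [AdjoinRoot.lift_of, RingHom.comp_apply, hc]
  set w : K := a - σ a with hw
  have hw0 : w ≠ 0 := sub_ne_zero.mpr (Ne.symm ha)
  have hσw : σ w = -w := by rw [hw, map_sub, hσ2, neg_sub]
  have hww : σ (w * w) = w * w := by rw [map_mul, hσw, neg_mul_neg]
  have hu2 : IsUnit (2 : R) := by
    refine IsUnit.of_mul_eq_one ⟨AdjoinRoot.of f (2 : K)⁻¹, hof _ (by rw [map_inv₀, map_ofNat])⟩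
      (Subtype.ext ?_)
    show (2 : AdjoinRoot f) * AdjoinRoot.of f (2 : K)⁻¹ = 1
    rw [← map_ofNat (AdjoinRoot.of f) 2, ← map_mul, mul_inv_cancel₀ h2, map_one]
  have huν : IsUnit (⟨AdjoinRoot.of f (w * w), hof _ hww⟩ : R) := by
    refine IsUnit.of_mul_eq_one ⟨AdjoinRoot.of f (w * w)⁻¹, hof _ (by rw [map_inv₀, hww])⟩
      (Subtype.ext ?_)
    show AdjoinRoot.of f (w * w) * AdjoinRoot.of f (w * w)⁻¹ = 1
    rw [← map_mul, mul_inv_cancel₀ (mul_ne_zero hw0 hw0), map_one]
  have hb : AdjoinRoot.mk f X ∈ R := by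
    show τ (AdjoinRoot.mk f X) = AdjoinRoot.mk f X
    rw [hτ, Polynomial.map_X]
  obtain ⟨x, y, hxy⟩ := quad hu2 huν ⟨_, hb⟩
  have hxy' : x.1 * x.1 - AdjoinRoot.of f (w * w) * (y.1 * y.1) = AdjoinRoot.mk f X :=
    congrArg Subtype.val hxy
  obtain ⟨p, hp⟩ := AdjoinRoot.mk_surjective (x.1 + AdjoinRoot.of f w * y.1)
  refine ⟨p, AdjoinRoot.mk_eq_mk.mp ?_⟩
  rw [map_mul, ← hτ, hp, map_add, map_mul, show τ x.1 = x.1 from x.2,
    show τ y.1 = y.1 from y.2, AdjoinRoot.lift_of, RingHom.comp_apply, hσw, map_neg,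
    ← hxy', map_mul]
  ring

/-- The unipotent case in characteristic two. -/
theorem norm_unip (hσ2 : ∀ x, σ (σ x) = x) (hne : ∃ a, σ a ≠ a) [CharP K 2] (k : ℕ) :
    ∃ p : K[X], X ^ (2 ^ k) - 1 ∣ p * p.map σ - X := by
  obtain ⟨a, ha⟩ := hne
  have hden : a + σ a ≠ 0 := fun h => ha (eq_neg_of_add_eq_zero_right h |>.trans (CharTwo.neg_eq a))
  set θ := a / (a + σ a) with hθ
  have hθ1 : θ + σ θ = 1 := by
    rw [hθ, map_div₀, map_add, hσ2, add_comm (σ a) a, ← add_div, div_self hden]
  have hmm : ∀ p : K[X], (p.map σ).map σ = p := fun p => Polynomial.ext fun i => by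
    simp [coeff_map, hσ2]
  have key : ∀ i, ∃ p r : K[X], p.coeff 0 = 1 ∧ r.map σ = r ∧
      p * p.map σ - (1 + X) = X ^ (i + 1) * r := by
    intro i
    induction i with
    | zero => exact ⟨1, -1, by simp, by simp, by simp⟩
    | succ i ih =>
      obtain ⟨p, r, hp, hr, e⟩ := ih
      have hr0 : σ (r.coeff 0) = r.coeff 0 := by conv_rhs => rw [← hr, coeff_map]
      set c := -(r.coeff 0) * θ with hc
      have hcc : c + σ c = -(r.coeff 0) := by
        rw [hc, map_mul, map_neg, hr0, ← mul_add, hθ1, mul_one]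
      set s := r + (C c * p.map σ + C (σ c) * p) + X ^ (i + 1) * C (c * σ c) with hs
      have hs0 : s.coeff 0 = 0 := by
        simp only [hs, coeff_add, mul_coeff_zero, coeff_C_zero, coeff_map, hp, map_one, coeff_X_pow,
          show ¬ (0 = i + 1) by omega, if_false, zero_mul, mul_one, add_zero]
        linear_combination hcc
      obtain ⟨r', hr'⟩ := X_dvd_iff.mpr hs0
      have hsm : s.map σ = s := by
        simp only [hs, Polynomial.map_add, Polynomial.map_mul, Polynomial.map_pow, Polynomial.map_X,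
          map_C, hr, hmm, map_mul, hσ2]
        ring
      refine ⟨p + C c * X ^ (i + 1), r', ?_, ?_, ?_⟩
      · simp [hp]
      · rw [hr', Polynomial.map_mul, Polynomial.map_X] at hsm
        exact mul_left_cancel₀ X_ne_zero hsm
      · rw [pow_succ X (i + 1), mul_assoc, ← hr', hs]
        simp only [Polynomial.map_add, Polynomial.map_mul, Polynomial.map_pow, Polynomial.map_X,
          map_C, map_mul]
        linear_combination e
  obtain ⟨i, hi⟩ : ∃ i, 2 ^ k = i + 1 :=
    ⟨2 ^ k - 1, (Nat.sub_add_cancel Nat.one_le_two_pow).symm⟩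
  obtain ⟨p, r, -, -, e⟩ := key i
  refine ⟨p.comp (X - 1), r.comp (X - 1), ?_⟩
  have e' := congrArg (fun t : K[X] => t.comp (X - 1)) e
  simp only [sub_comp, mul_comp, add_comp, one_comp, X_comp, pow_comp] at e'
  rw [Polynomial.map_comp, Polynomial.map_sub, Polynomial.map_X, Polynomial.map_one,
    show (X : K[X]) ^ 2 ^ k - 1 = (X - 1) ^ 2 ^ k by rw [sub_pow_char_pow, one_pow], hi]
  linear_combination e'

/-- `X` is a norm modulo `X ^ N - 1`. -/
theorem exists_norm (hσ2 : ∀ x, σ (σ x) = x) (hne : ∃ a, σ a ≠ a) {N : ℕ} (hN : N ≠ 0) :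
    ∃ p : K[X], X ^ N - 1 ∣ p * p.map σ - X := by
  obtain ⟨k, m, ⟨j, rfl⟩, rfl⟩ := Nat.exists_eq_two_pow_mul_odd hN
  obtain ⟨p, hp⟩ : ∃ p : K[X], X ^ (2 ^ k) - 1 ∣ p * p.map σ - X := by
    by_cases h2 : (2 : K) = 0
    · haveI : CharP K 2 := CharTwo.of_one_ne_zero_of_two_eq_zero one_ne_zero h2
      exact norm_unip hσ2 hne k
    · exact norm_sep hσ2 hne h2 (by push_cast; exact pow_ne_zero _ h2)
  set m := 2 * j + 1 with hm
  set d := (2 ^ k * m - 1) * j with hd
  have h1 : X ^ (2 ^ k * m) - 1 ∣ (p.comp (X ^ m) * (p.comp (X ^ m)).map σ) - (X : K[X]) ^ m := by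
    obtain ⟨r, hr⟩ := hp
    refine ⟨r.comp (X ^ m), ?_⟩
    have e := congrArg (fun t : K[X] => t.comp (X ^ m)) hr
    simp only [sub_comp, mul_comp, one_comp, X_comp, pow_comp] at e
    rw [Polynomial.map_comp, Polynomial.map_pow, Polynomial.map_X, e, ← pow_mul, mul_comm m]
  refine ⟨p.comp (X ^ m) * X ^ d, ?_⟩
  have hexp : m + (d + d) = 2 ^ k * m * (2 * j) + 1 := by
    have hpos : 1 ≤ 2 ^ k * m := Nat.one_le_iff_ne_zero.mpr hN
    obtain ⟨t, ht⟩ := Nat.exists_eq_add_of_le hpos
    rw [hd, ht, Nat.add_sub_cancel_left, hm]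
    ring
  have h2' : (X : K[X]) ^ (2 ^ k * m) - 1 ∣ X ^ (m + (d + d)) - X := by
    rw [hexp, pow_succ, pow_mul _ (2 ^ k * m), ← sub_one_mul]
    exact (sub_one_dvd_pow_sub_one _ _).mul_right _
  have e : p.comp (X ^ m) * X ^ d * (p.comp (X ^ m) * X ^ d).map σ - X =
      (p.comp (X ^ m) * (p.comp (X ^ m)).map σ - X ^ m) * (X ^ d * X ^ d) + (X ^ (m + (d + d)) - X) := by
    rw [Polynomial.map_mul, Polynomial.map_pow, Polynomial.map_X]
    ring
  rw [e]
  exact dvd_add (h1.mul_right _) h2'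

open Matrix in
/-- Elements of `GU` conjugate in `GL` are conjugate in `GU`. -/
theorem isConj_GU {q n : ℕ} (hK : Fintype.card K = q ^ 2) (A B : ↥(Cfsg.GU n K q))
    (h : IsConj (A : GL (Fin n) K) (B : GL (Fin n) K)) : IsConj A B := by
  classical
  obtain ⟨hq, s, hs⟩ := UnitaryBasic.frob_exists hK
  have hs2 : ∀ x, s (s x) = x := fun x => by
    rw [hs, hs, ← pow_mul, ← sq, ← hK, FiniteField.pow_card]
  have hne : ∃ a, s a ≠ a := by
    by_contra hc
    push_neg at hc
    have hu : ∀ u : Kˣ, u ^ (q - 1) = 1 := fun u => by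
      apply Units.ext
      have := hc u
      rw [hs, ← Nat.sub_add_cancel (n := q) (m := 1) (by omega), pow_succ] at this
      simpa using mul_right_cancel₀ u.ne_zero (this.trans (one_mul _).symm)
    obtain ⟨g, hg⟩ := IsCyclic.exists_ofOrder_eq_natCard (α := Kˣ)
    have := orderOf_dvd_of_pow_eq_one (hu g)
    rw [hg, Nat.card_units, Nat.card_eq_fintype_card, hK] at this
    have := Nat.le_of_dvd (by omega) this
    nlinarith [Nat.sub_add_cancel (show 1 ≤ q ^ 2 by nlinarith), Nat.sub_add_cancel (show 1 ≤ q by omega)]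
  let st : Matrix (Fin n) (Fin n) K → Matrix (Fin n) (Fin n) K := fun M => (M.map s)ᵀ
  have st_mul : ∀ M N, st (M * N) = st N * st M := fun M N => by
    simp [st, Matrix.map_mul, transpose_mul]
  have st_st : ∀ M, st (st M) = M := fun M => by ext i j; simp [st, hs2]
  have st_one : st 1 = 1 := by simp [st]
  have mem_iff : ∀ g : GL (Fin n) K, g ∈ Cfsg.GU n K q ↔ st g.1 * g.1 = 1 := by
    intro g
    have e : ∀ u v : Fin n → K, Cfsg.hermForm n K q u v = u ⬝ᵥ (s ∘ v) := fun u v => by
      simp [Cfsg.hermForm, dotProduct, hs]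
    have key : ∀ u v, Cfsg.hermForm n K q (g.1 *ᵥ u) (g.1 *ᵥ v) =
        u ⬝ᵥ ((g.1ᵀ * g.1.map s) *ᵥ (s ∘ v)) := fun u v => by
      rw [e, show s ∘ (g.1 *ᵥ v) = g.1.map s *ᵥ (s ∘ v) from funext fun i => RingHom.map_mulVec s _ _ i,
        ← mulVec_mulVec, dotProduct_mulVec u, vecMul_transpose]
    constructor
    · intro hg
      have h1 : g.1ᵀ * g.1.map s = 1 := by
        refine Matrix.ext fun i j => ?_
        have := hg (Pi.single i 1) (Pi.single j 1)
        change Cfsg.hermForm n K q (g.1 *ᵥ Pi.single i 1) (g.1 *ᵥ Pi.single j 1) = _ at this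
        rw [key, e, show s ∘ Pi.single j (1 : K) = Pi.single j 1 from funext fun x => by
          simp [Pi.single_apply, apply_ite s]] at this
        simpa [single_dotProduct, Matrix.one_apply, Pi.single_apply, eq_comm] using this
      have h2 := congrArg (fun M : Matrix (Fin n) (Fin n) K => M.map s) h1
      simp only [Matrix.map_mul, transpose_map] at h2
      simpa [st, show (g.1.map s).map s = g.1 from Matrix.ext fun i j => by simp [hs2]] using h2
    · intro hg
      have h2 := congrArg (fun M : Matrix (Fin n) (Fin n) K => M.map s) hg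
      simp only [st, Matrix.map_mul, transpose_map] at h2
      rw [show (g.1.map s).map s = g.1 from Matrix.ext fun i j => by simp [hs2],
        Matrix.map_one s (map_zero s) (map_one s)] at h2
      intro u v
      show Cfsg.hermForm n K q (g.1 *ᵥ u) (g.1 *ᵥ v) = _
      rw [key, h2, one_mulVec, e]
  obtain ⟨x, hx⟩ := isConj_iff.mp h
  set a : Matrix (Fin n) (Fin n) K := (A : GL (Fin n) K).1 with ha
  set b : Matrix (Fin n) (Fin n) K := (B : GL (Fin n) K).1 with hb
  have hA : st a * a = 1 := (mem_iff _).mp A.2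
  have hB : st b * b = 1 := (mem_iff _).mp B.2
  have hxa : x.1 * a = b * x.1 := congrArg Units.val (mul_inv_eq_iff_eq_mul.mp hx)
  set H := st x.1 * x.1 with hH
  have hHst : st H = H := by rw [hH, st_mul, st_st]
  have hcomm : Commute a H := by
    have h1 : st a * H * a = H := by
      calc st a * H * a = st (x.1 * a) * (x.1 * a) := by rw [st_mul, hH]; noncomm_ring
        _ = st x.1 * (st b * b) * x.1 := by rw [hxa, st_mul]; noncomm_ring
        _ = H := by rw [hB, mul_one]
    have h2 : a * st a = 1 := mul_eq_one_comm.mp hA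
    calc a * H = a * (st a * H * a) := by rw [h1]
      _ = (a * st a) * H * a := by noncomm_ring
      _ = H * a := by rw [h2, one_mul]
  have hHu : IsUnit H := by
    rw [hH]
    refine IsUnit.mul ?_ x.isUnit
    exact IsUnit.of_mul_eq_one (st (x⁻¹ : GL (Fin n) K).1) (by rw [← st_mul, Units.inv_mul, st_one])
  set N := orderOf hHu.unit with hN
  have hN0 : N ≠ 0 := (orderOf_pos _).ne'
  have hHN : H ^ N = 1 := by
    have := congrArg Units.val (pow_orderOf_eq_one hHu.unit)
    simpa [← hN] using this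
  obtain ⟨p, r, hp⟩ := exists_norm hs2 hne hN0
  have st_pow : ∀ i, st (H ^ i) = H ^ i := by
    intro i
    induction i with
    | zero => simpa using st_one
    | succ i ih => rw [pow_succ, st_mul, ih, hHst, ← pow_succ']; exact pow_succ H i
  have st_smul : ∀ (c : K) M, st (c • M) = s c • st M := fun c M => by ext u v; simp [st]
  have st_aeval : ∀ t : K[X], st (aeval H t) = aeval H (t.map s) := by
    intro t
    induction t using Polynomial.induction_on' with
    | add u v hu hv =>
      rw [map_add, Polynomial.map_add, map_add, ← hu, ← hv]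
      simp [st, Matrix.map_add]
    | monomial i c =>
      rw [Polynomial.map_monomial, aeval_monomial, aeval_monomial, ← Algebra.smul_def,
        ← Algebra.smul_def, st_smul, st_pow i]
  set Z := aeval H p with hZ
  have hZZ : st Z * Z = H := by
    have e := congrArg (aeval H) hp
    simp only [map_sub, map_mul, map_pow, aeval_X, map_one, hHN, sub_self, zero_mul, sub_eq_zero] at e
    rw [hZ, st_aeval, ← map_mul, mul_comm (p.map s), map_mul, e]
  have hZu : IsUnit Z := by
    rw [Matrix.isUnit_iff_isUnit_det]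
    have := (Matrix.isUnit_iff_isUnit_det _).mp hHu
    rw [← hZZ, det_mul] at this
    exact isUnit_of_mul_isUnit_right this
  obtain ⟨z, hz⟩ := hZu
  have hzA : Commute (A : GL (Fin n) K) z := by
    refine Units.ext ?_
    show a * (z : Matrix (Fin n) (Fin n) K) = z * a
    rw [hz, hZ]
    clear hp hZ hz hZZ
    clear_value Z
    induction p using Polynomial.induction_on' with
    | add u v hu hv => rw [map_add, mul_add, add_mul, hu, hv]
    | monomial i c =>
      rw [aeval_monomial, ← Algebra.smul_def, mul_smul_comm, smul_mul_assoc, (hcomm.pow_right i).eq]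
  have hy : x * z⁻¹ ∈ Cfsg.GU n K q := by
    rw [mem_iff]
    show st (x.1 * (z⁻¹ : GL (Fin n) K).1) * (x.1 * (z⁻¹ : GL (Fin n) K).1) = 1
    set zi := (z⁻¹ : GL (Fin n) K).1 with hzi
    calc st (x.1 * zi) * (x.1 * zi) = st zi * (st Z * Z) * zi := by rw [st_mul, hZZ, hH]; noncomm_ring
      _ = st (Z * zi) * (Z * zi) := by rw [st_mul]; noncomm_ring
      _ = 1 := by rw [← hz, hzi, Units.mul_inv, st_one, one_mul]
  refine isConj_iff.mpr ⟨⟨_, hy⟩, Subtype.ext ?_⟩
  show x * z⁻¹ * (A : GL (Fin n) K) * (x * z⁻¹)⁻¹ = B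
  rw [← hx, _root_.mul_inv_rev, inv_inv]
  simp only [mul_assoc]
  rw [← mul_assoc (A : GL (Fin n) K) z, hzA.eq]
  group

end CfsgLib.UnitaryConj
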