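import Cfsg.Agent.Lib.UnitaryConj.Norm
import Cfsg.Agent.Lib.PSLn.Descent

/-!
A matrix over the field with `q²` elements is similar to a unitary one when it is similar to the inverse of its
conjugate transpose.
-/

set_option autoImplicit false
set_option linter.unusedSectionVars false

namespace CfsgLib.UnitaryConj

open Matrix

theorem exists_unit_add {K R : Type*} [Field K] [CommRing R] [Finite R] (σ : K →+* K) (φ : K →+* R)
    (τ : R →+* R) (hne : ∃ a, σ a ≠ a) (hτ : ∀ x, τ (τ x) = x) (hφ : ∀ a, τ (φ a) = φ (σ a)) (J : R)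
    (hJ : τ J * J = 1) : ∃ x, IsUnit (x + τ x * J) := by
  classical
  let Tm : MaximalSpectrum R → MaximalSpectrum R := fun I =>
    ⟨I.asIdeal.comap τ, by
      haveI := I.isMaximal
      exact Ideal.comap_isMaximal_of_surjective τ fun x => ⟨τ x, hτ x⟩⟩
  have hT : ∀ I, Tm (Tm I) = I := fun I => MaximalSpectrum.ext (Ideal.ext fun x => by
    show τ (τ x) ∈ I.asIdeal ↔ x ∈ I.asIdeal
    rw [hτ])
  obtain ⟨a, ha⟩ := hne
  obtain ⟨ord, hord⟩ : ∃ ord : MaximalSpectrum R → ℕ, Function.Injective ord :=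
    ⟨fun I => (Finite.equivFin (MaximalSpectrum R) I).val, fun I J h =>
      (Finite.equivFin _).injective (Fin.ext h)⟩
  let val : MaximalSpectrum R → R := fun I =>
    if Tm I = I then (if φ 1 + φ (σ 1) * J ∈ I.asIdeal then φ a else φ 1)
    else if ord I < ord (Tm I) then 1 else 0
  obtain ⟨x, hx⟩ := Ideal.exists_forall_sub_mem_ideal (I := fun I : MaximalSpectrum R => I.asIdeal)
    (fun I I' hII => Ideal.isCoprime_iff_sup_eq.mpr
      (I.isMaximal.coprime_of_ne I'.isMaximal fun h => hII (MaximalSpectrum.ext h))) val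
  refine ⟨x, ?_⟩
  by_contra hc
  obtain ⟨I₀, hI₀, hmem⟩ := exists_max_ideal_of_mem_nonunits hc
  obtain ⟨I, rfl⟩ : ∃ I : MaximalSpectrum R, I.asIdeal = I₀ := ⟨⟨I₀, hI₀⟩, rfl⟩
  have hJu : IsUnit J := IsUnit.of_mul_eq_one _ (by rw [mul_comm]; exact hJ)
  have h1 := hx I
  have h2 : τ x - τ (val (Tm I)) ∈ I.asIdeal := by
    rw [← map_sub]; exact hx (Tm I)
  have hkey : val I + τ (val (Tm I)) * J ∈ I.asIdeal := by
    have h3 := I.asIdeal.sub_mem (I.asIdeal.sub_mem hmem h1) (I.asIdeal.mul_mem_right J h2)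
    convert h3 using 1; ring
  have hne1 : (1 : R) ∉ I.asIdeal := fun h => I.isMaximal.ne_top ((Ideal.eq_top_iff_one _).mpr h)
  have hJI : J ∉ I.asIdeal := fun h => I.isMaximal.ne_top (Ideal.eq_top_of_isUnit_mem _ h hJu)
  by_cases he : Tm I = I
  · simp only [val, he, if_true] at hkey
    split_ifs at hkey with hf
    · rw [hφ] at hkey
      have h4 := I.asIdeal.sub_mem (I.asIdeal.mul_mem_left (φ a) hf) hkey
      have h5 : (φ a - φ (σ a)) * J ∈ I.asIdeal := by
        convert h4 using 1; rw [map_one σ, map_one φ]; ring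
      refine hJI ((I.isMaximal.isPrime.mem_or_mem h5).resolve_left fun h6 => ?_)
      rw [← map_sub] at h6
      have hu : IsUnit (φ (a - σ a)) := (IsUnit.mk0 _ (sub_ne_zero.mpr (Ne.symm ha))).map φ
      exact I.isMaximal.ne_top (Ideal.eq_top_of_isUnit_mem _ h6 hu)
    · exact hf (by rwa [hφ] at hkey)
  · have he' : Tm (Tm I) ≠ Tm I := by rw [hT]; exact Ne.symm he
    simp only [val, he, if_false, hT, (Ne.symm he : I ≠ Tm I)] at hkey
    rcases lt_trichotomy (ord I) (ord (Tm I)) with hlt | heq | hgt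
    · rw [if_pos hlt, if_neg (not_lt.mpr hlt.le), map_zero, zero_mul, add_zero] at hkey
      exact hne1 hkey
    · exact he (hord heq).symm
    · rw [if_neg (not_lt.mpr hgt.le), if_pos hgt, map_one, one_mul, zero_add] at hkey
      exact hJI hkey

variable {K : Type*} [Field K] [Fintype K] {n : ℕ}

theorem exists_herm (s : K →+* K) (hs2 : ∀ x, s (s x) = x) (hne : ∃ a, s a ≠ a)
    (A P : GL (Fin n) K) (h : (A.1.map s)ᵀ * P.1 * A.1 = P.1) :
    ∃ H : GL (Fin n) K, (H.1.map s)ᵀ = H.1 ∧ (A.1.map s)ᵀ * H.1 * A.1 = H.1 := by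
  classical
  let st : Matrix (Fin n) (Fin n) K → Matrix (Fin n) (Fin n) K := fun M => (M.map s)ᵀ
  have st_mul : ∀ M N, st (M * N) = st N * st M := fun M N => by simp [st, Matrix.map_mul, transpose_mul]
  have st_st : ∀ M, st (st M) = M := fun M => by ext i j; simp [st, hs2]
  have st_one : st 1 = 1 := by simp [st]
  have st_add : ∀ M N, st (M + N) = st M + st N := fun M N => by ext i j; simp [st]
  let stu : GL (Fin n) K → GL (Fin n) K := fun g => ⟨st g.1, st (g⁻¹).1,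
    by rw [← st_mul, Units.inv_mul, st_one], by rw [← st_mul, Units.mul_inv, st_one]⟩
  set J : GL (Fin n) K := P⁻¹ * stu P with hJdef
  have hJv : J.1 = (P⁻¹).1 * st P.1 := rfl
  let τ : Matrix (Fin n) (Fin n) K → Matrix (Fin n) (Fin n) K := fun M => (P⁻¹).1 * st M * P.1
  have τ_mul : ∀ M N, τ (M * N) = τ N * τ M := fun M N => by
    simp only [τ, st_mul, mul_assoc, Units.mul_inv_cancel_left]
  have τ_add : ∀ M N, τ (M + N) = τ M + τ N := fun M N => by simp only [τ, st_add, mul_add, add_mul]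
  have τ_alg : ∀ c : K, τ (algebraMap K _ c) = algebraMap K _ (s c) := fun c => by
    have e : st (algebraMap K (Matrix (Fin n) (Fin n) K) c) = algebraMap K _ (s c) := by
      ext i j; simp [st, Algebra.algebraMap_eq_smul_one, Matrix.one_apply, eq_comm, apply_ite s]
    simp only [τ, e]
    rw [← Algebra.commutes, mul_assoc, Units.inv_mul, mul_one]
  have τJ : τ J.1 = (J⁻¹).1 := by
    show (P⁻¹).1 * st ((P⁻¹).1 * st P.1) * P.1 = st (P⁻¹).1 * (P⁻¹⁻¹).1
    rw [st_mul, st_st, inv_inv, ← mul_assoc, Units.inv_mul, one_mul]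
  set S := Algebra.adjoin K ({J.1} : Set (Matrix (Fin n) (Fin n) K)) with hS
  have hJS : J.1 ∈ S := Algebra.subset_adjoin rfl
  have hJinv : (J⁻¹).1 ∈ S := by
    have h1 : J⁻¹ = J ^ (orderOf J - 1) :=
      inv_eq_of_mul_eq_one_right (by
        rw [← pow_succ', Nat.sub_add_cancel (orderOf_pos J), pow_orderOf_eq_one])
    rw [h1, Units.val_pow_eq_pow_val]
    exact pow_mem hJS _
  have τ_mem : ∀ x ∈ S, τ x ∈ S := by
    intro x hx
    induction hx using Algebra.adjoin_induction with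
    | mem y hy => rw [Set.mem_singleton_iff] at hy; rw [hy, τJ]; exact hJinv
    | algebraMap c => rw [τ_alg]; exact S.algebraMap_mem _
    | add y z _ _ hy hz => rw [τ_add]; exact add_mem hy hz
    | mul y z _ _ hy hz => rw [τ_mul]; exact mul_mem hz hy
  have hcomm : ∀ x ∈ S, ∀ y ∈ S, x * y = y * x := fun x hx y hy => by
    refine Algebra.commute_of_mem_adjoin_of_forall_mem_commute hy fun b hb => ?_
    rw [Set.mem_singleton_iff] at hb
    rw [hb]
    exact (Algebra.commute_of_mem_adjoin_singleton_of_commute hx (Commute.refl J.1)).symm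
  have τ_one : τ 1 = 1 := by rw [← map_one (algebraMap K (Matrix (Fin n) (Fin n) K)), τ_alg, map_one, map_one]
  have τ_zero : τ 0 = 0 := by rw [← map_zero (algebraMap K (Matrix (Fin n) (Fin n) K)), τ_alg, map_zero, map_zero]
  let τR : S →+* S :=
    { toFun := fun x => ⟨τ x.1, τ_mem _ x.2⟩
      map_one' := Subtype.ext τ_one
      map_mul' := fun x y => Subtype.ext (by
        show τ (x.1 * y.1) = τ x.1 * τ y.1
        rw [hcomm x.1 x.2 y.1 y.2, τ_mul])
      map_zero' := Subtype.ext τ_zero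
      map_add' := fun x y => Subtype.ext (τ_add x.1 y.1) }
  letI : CommRing S := { (inferInstance : Ring S) with mul_comm := fun x y => Subtype.ext (hcomm x.1 x.2 y.1 y.2) }
  have ττ : ∀ x : S, τR (τR x) = x := fun x => Subtype.ext (by
    show (P⁻¹).1 * st ((P⁻¹).1 * st x.1 * P.1) * P.1 = x.1
    rw [st_mul, st_mul, st_st]
    have e : (P⁻¹).1 * (st P.1 * (x.1 * st (P⁻¹).1)) * P.1 = J.1 * x.1 * (J⁻¹).1 := by
      rw [hJv, show (J⁻¹).1 = st (P⁻¹).1 * (P⁻¹⁻¹).1 from rfl, inv_inv]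
      simp only [mul_assoc]
    rw [e, hcomm J.1 hJS x.1 x.2, Units.mul_inv_cancel_right])
  obtain ⟨x, hx⟩ := exists_unit_add s (algebraMap K S) τR hne ττ
    (fun c => Subtype.ext (τ_alg c)) ⟨J.1, hJS⟩ (Subtype.ext (by
      show τ J.1 * J.1 = 1
      rw [τJ, Units.inv_mul]))
  set c : Matrix (Fin n) (Fin n) K := x.1 + τ x.1 * J.1 with hc
  obtain ⟨cu, hcu⟩ : IsUnit c := hx.map S.val
  have hAJ : Commute A.1 J.1 := by
    have hPA : (P⁻¹).1 * st A.1 = (A⁻¹).1 * (P⁻¹).1 := by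
      have h' : st A.1 * P.1 * A.1 = P.1 := h
      calc (P⁻¹).1 * st A.1 = (P⁻¹).1 * (st A.1 * P.1 * A.1) * (A⁻¹).1 * (P⁻¹).1 := by
            simp only [mul_assoc, Units.mul_inv_cancel_left, Units.mul_inv, mul_one]
        _ = _ := by rw [h', Units.inv_mul, one_mul]
    have h2 : st A.1 * st P.1 * A.1 = st P.1 := by
      have := congrArg st (show st A.1 * P.1 * A.1 = P.1 from h)
      rwa [st_mul, st_mul, st_st, ← mul_assoc] at this
    show A.1 * J.1 = J.1 * A.1
    rw [hJv]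
    calc A.1 * ((P⁻¹).1 * st P.1) = A.1 * ((P⁻¹).1 * (st A.1 * st P.1 * A.1)) := by rw [h2]
      _ = A.1 * ((P⁻¹).1 * st A.1) * st P.1 * A.1 := by simp only [mul_assoc]
      _ = (P⁻¹).1 * st P.1 * A.1 := by rw [hPA, ← mul_assoc, Units.mul_inv, one_mul]
  have hcS : c ∈ S := add_mem x.2 (mul_mem (τ_mem _ x.2) hJS)
  have hcA : Commute A.1 c := Algebra.commute_of_mem_adjoin_singleton_of_commute hcS hAJ
  refine ⟨P * cu, ?_, ?_⟩
  · show st (P.1 * cu.1) = P.1 * cu.1
    rw [hcu, st_mul]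
    have e : st c * st P.1 = P.1 * (τ c * J.1) := by
      show _ = P.1 * ((P⁻¹).1 * st c * P.1 * ((P⁻¹).1 * st P.1))
      simp only [mul_assoc, Units.mul_inv_cancel_left]
    rw [e]
    congr 1
    rw [hc, τ_add, τ_mul, τJ, add_mul, add_comm]
    congr 1
    · rw [show τ (τ x.1) = x.1 from congrArg Subtype.val (ττ x), hcomm _ hJinv x.1 x.2, Units.inv_mul_cancel_right]
  · show st A.1 * (P.1 * cu.1) * A.1 = P.1 * cu.1
    rw [hcu, mul_assoc, mul_assoc, ← hcA.eq, ← mul_assoc, ← mul_assoc, show st A.1 * P.1 * A.1 = P.1 from h]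

theorem similar_iff {q : ℕ} (hK : Fintype.card K = q ^ 2) (A : GL (Fin n) K) :
    (∃ B : ↥(Cfsg.GU n K q), IsConj A (B : GL (Fin n) K)) ↔
      IsConj (A : Matrix (Fin n) (Fin n) K)
        (((A : Matrix (Fin n) (Fin n) K).map (fun x : K => x ^ q)).transpose)⁻¹ := by
  classical
  obtain ⟨hq, s, hs⟩ := UnitaryBasic.frob_exists hK
  have hs2 : ∀ x, s (s x) = x := fun x => by rw [hs, hs, ← pow_mul, ← sq, ← hK, FiniteField.pow_card]
  have hne : ∃ a, s a ≠ a := by
    obtain ⟨ζ, hζ⟩ := UnitaryBasic.exists_zeta hK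
    refine ⟨ζ, fun he => ?_⟩
    rw [hs] at he
    have h1 : ζ ^ (q - 1) = 1 := Units.ext (by
      have h2 : (ζ : K) ^ (q - 1) * ζ = 1 * ζ := by rw [← pow_succ, Nat.sub_add_cancel (by omega), he, one_mul]
      simpa using mul_right_cancel₀ ζ.ne_zero h2)
    have h3 := Nat.le_of_dvd (by omega) (hζ ▸ orderOf_dvd_of_pow_eq_one h1)
    omega
  rw [show (fun x : K => x ^ q) = ⇑s from funext fun x => (hs x).symm]
  have mem_iff : ∀ g : GL (Fin n) K, g ∈ Cfsg.GU n K q ↔ (g.1.map s)ᵀ * g.1 = 1 := by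
    intro g
    have e : ∀ u v : Fin n → K, Cfsg.hermForm n K q u v = u ⬝ᵥ (s ∘ v) := fun u v => by
      simp [Cfsg.hermForm, dotProduct, hs]
    have key : ∀ u v, Cfsg.hermForm n K q (g.1 *ᵥ u) (g.1 *ᵥ v) =
        u ⬝ᵥ ((g.1ᵀ * g.1.map s) *ᵥ (s ∘ v)) := fun u v => by
      rw [e, show s ∘ (g.1 *ᵥ v) = g.1.map s *ᵥ (s ∘ v) from funext fun i => RingHom.map_mulVec s _ _ i,
        ← mulVec_mulVec, dotProduct_mulVec u, vecMul_transpose]
    have hiff : g.1ᵀ * g.1.map s = 1 ↔ (g.1.map s)ᵀ * g.1 = 1 := by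
      constructor <;> intro h <;> have h2 := congrArg Matrix.transpose h <;>
        simpa [transpose_mul] using h2
    rw [← hiff]
    constructor
    · intro hg
      refine Matrix.ext fun i j => ?_
      have := hg (Pi.single i 1) (Pi.single j 1)
      change Cfsg.hermForm n K q (g.1 *ᵥ Pi.single i 1) (g.1 *ᵥ Pi.single j 1) = _ at this
      rw [key, e, show s ∘ Pi.single j (1 : K) = Pi.single j 1 from funext fun x => by
        simp [Pi.single_apply, apply_ite s]] at this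
      simpa [single_dotProduct, Matrix.one_apply, Pi.single_apply, eq_comm] using this
    · intro h u v
      show Cfsg.hermForm n K q (g.1 *ᵥ u) (g.1 *ᵥ v) = _
      rw [key, h, one_mulVec, e]
  have stunit : ∀ g : GL (Fin n) K, IsUnit (g.1.map s)ᵀ := fun g =>
    ((g.isUnit.map (RingHom.mapMatrix s)).map (Matrix.transposeRingEquiv (Fin n) K)).unop
  constructor
  · rintro ⟨B, hB⟩
    obtain ⟨x, hx⟩ := _root_.isConj_iff.mp hB
    have hxA : x.1 * A.1 = (B : GL (Fin n) K).1 * x.1 := congrArg Units.val (mul_inv_eq_iff_eq_mul.mp hx)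
    have h0 : (A.1.map s)ᵀ * ((x.1.map s)ᵀ * x.1) * A.1 = (x.1.map s)ᵀ * x.1 := by
      calc (A.1.map s)ᵀ * ((x.1.map s)ᵀ * x.1) * A.1 = ((x.1 * A.1).map s)ᵀ * (x.1 * A.1) := by
            rw [Matrix.map_mul, transpose_mul]; simp only [mul_assoc]
        _ = (x.1.map s)ᵀ * (((B : GL (Fin n) K).1.map s)ᵀ * (B : GL (Fin n) K).1) * x.1 := by
            rw [hxA, Matrix.map_mul, transpose_mul]; simp only [mul_assoc]
        _ = _ := by rw [(mem_iff _).mp B.2, mul_one]
    refine ⟨((stunit x).mul x.isUnit).unit, ?_⟩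
    show _ * A.1 = _ * _
    rw [IsUnit.unit_spec]
    have hu := (Matrix.isUnit_iff_isUnit_det _).mp (stunit A)
    calc (x.1.map s)ᵀ * x.1 * A.1 =
        ((A.1.map s)ᵀ)⁻¹ * ((A.1.map s)ᵀ * ((x.1.map s)ᵀ * x.1) * A.1) := by
          rw [mul_assoc ((A.1.map s)ᵀ), ← mul_assoc _ ((A.1.map s)ᵀ), Matrix.nonsing_inv_mul _ hu, one_mul]
      _ = _ := by rw [h0]
  · rintro ⟨P, hP⟩
    have hP' : P.1 * A.1 = ((A.1.map s)ᵀ)⁻¹ * P.1 := hP
    have hu := (Matrix.isUnit_iff_isUnit_det _).mp (stunit A)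
    have h0 : (A.1.map s)ᵀ * P.1 * A.1 = P.1 := by
      rw [mul_assoc, hP', ← mul_assoc, Matrix.mul_nonsing_inv _ hu, one_mul]
    obtain ⟨H, hH, hHA⟩ := exists_herm s hs2 hne A P h0
    let σ : RingAut K := RingEquiv.ofRingHom s s (RingHom.ext hs2) (RingHom.ext hs2)
    have hσ : orderOf σ = 2 := by
      haveI : Fact (Nat.Prime 2) := ⟨Nat.prime_two⟩
      obtain ⟨a, ha⟩ := hne
      refine orderOf_eq_prime ?_ fun e => ha (RingEquiv.congr_fun e a)
      rw [pow_two]
      exact RingEquiv.ext hs2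
    obtain ⟨k, hk⟩ := CfsgLib.PSLn.exists_hermitian_factor σ hσ H (by
      show H.1ᵀ.map s = H.1
      rw [Matrix.transpose_map]; exact hH)
    have hk' : H.1 = k.1 * (k.1.map s)ᵀ := hk
    set kt : GL (Fin n) K := (stunit k).unit with hkt
    have hktv : kt.1 = (k.1.map s)ᵀ := (stunit k).unit_spec
    have st_inv : ((kt⁻¹).1.map s)ᵀ = (k⁻¹).1 := by
      have e := congrArg (fun M => ((M : Matrix (Fin n) (Fin n) K).map s)ᵀ) (Units.mul_inv kt)
      simp only [hktv, Matrix.map_mul, transpose_mul, Matrix.map_one s (map_zero s) (map_one s),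
        transpose_one] at e
      rw [show (((k.1.map s)ᵀ).map s)ᵀ = k.1 from Matrix.ext fun i j => by simp [hs2]] at e
      exact (Units.eq_inv_of_mul_eq_one_right e)
    refine ⟨⟨kt * A * kt⁻¹, (mem_iff _).mpr ?_⟩, _root_.isConj_iff.mpr ⟨kt, rfl⟩⟩
    have hkkt : (kt.1.map s)ᵀ = k.1 := by rw [hktv]; ext i j; simp [hs2]
    rw [Units.val_mul, Units.val_mul, Matrix.map_mul, Matrix.map_mul, transpose_mul, transpose_mul, st_inv, hkkt]
    calc (k⁻¹).1 * ((A.1.map s)ᵀ * k.1) * (kt.1 * A.1 * (kt⁻¹).1) =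
        (k⁻¹).1 * ((A.1.map s)ᵀ * (k.1 * kt.1) * A.1) * (kt⁻¹).1 := by simp only [mul_assoc]
      _ = 1 := by
        rw [hktv, ← hk', hHA, hk', ← hktv, Units.inv_mul_cancel_left, Units.mul_inv]

end CfsgLib.UnitaryConj
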