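import Cfsg.Agent.Lib.SemisimpleIso.UnitaryDet
import Cfsg.Agent.S2162

/-!
In characteristic two the centraliser of an involution of `GU_n(q)` meets every coset of `SU_n(q)`, so conjugacy of
involutions in `SU_n(q)` is decided by the rank.
-/

set_option autoImplicit false
set_option linter.unusedSectionVars false
set_option linter.dupNamespace false

namespace CfsgLib.SemisimpleUnitary

open Matrix Module

variable {K : Type*} [Field K] [Fintype K] [CharP K 2] {n : ℕ} {s : K →+* K}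

theorem exists_det_involution (hs : ∀ x, s (s x) = x) (hne : ∃ c, s c ≠ c) {a : Matrix (Fin n) (Fin n) K}
    (ha : st s a * a = 1) (ha2 : a * a = 1) (ha1 : a ≠ 1) (l : K) (hl : s l * l = 1) :
    ∃ z : Matrix (Fin n) (Fin n) K, st s z * z = 1 ∧ z * a = a * z ∧ z.det = l * l := by
  classical
  haveI : CharP (Matrix (Fin n) (Fin n) K) 2 := by
    rcases Nat.eq_zero_or_pos n with rfl | hn
    · exact absurd (Subsingleton.elim a 1) ha1
    · haveI : Nonempty (Fin n) := ⟨⟨0, hn⟩⟩
      infer_instance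
  have hsta : st s a = a := by
    calc st s a = st s a * (a * a) := by rw [ha2, mul_one]
      _ = a := by rw [← mul_assoc, ha, one_mul]
  set N := a - 1 with hN
  have hstN : st s N = N := by rw [hN, st_sub, hsta, st_one]
  have hNN : N * N = 0 := by
    rw [hN, CharTwo.sub_eq_add, mul_add, add_mul, add_mul, ha2, mul_one, one_mul, one_mul]
    rw [show (1 : Matrix (Fin n) (Fin n) K) + a + (a + 1) = (1 + 1) + (a + a) by abel, CharTwo.add_self_eq_zero,
      CharTwo.add_self_eq_zero, add_zero]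
  have haN : a = 1 + N := by rw [hN]; abel
  -- the Hermitian form of `a - 1` takes a non-zero value
  obtain ⟨x, hx⟩ : ∃ x, hf s (N *ᵥ x) x ≠ 0 := by
    by_contra hc
    push Not at hc
    refine ha1 (sub_eq_zero.mp (show N = 0 from ext_hf hs fun u v => ?_))
    rw [Matrix.zero_mulVec]
    have h0 : hf s u (0 : Fin n → K) = 0 := by simp [hf]
    rw [h0, ← hstN, ← hf_adj hs]
    by_contra hne'
    set B := hf s (N *ᵥ u) v with hB
    have hz : ∀ c : K, c * B + s (c * B) = 0 := by
      intro c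
      have h1 := hc (c • u + v)
      rw [Matrix.mulVec_add, Matrix.mulVec_smul, hf_add_left, hf_add_right, hf_add_right, hc v, add_zero,
        hf_smul_left, hf_smul_left] at h1
      have h2 : hf s (N *ᵥ u) (c • u) = 0 := by
        rw [hf_symm hs, hf_smul_left, hf_symm hs (N *ᵥ u) u, hc u]; simp
      have h3 : hf s (N *ᵥ v) (c • u) = s (c * B) := by
        rw [hf_symm hs (c • u) (N *ᵥ v), hf_smul_left, hB, hf_adj hs N u v, hstN]
      rw [h2, h3, mul_zero, zero_add] at h1
      exact h1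
    obtain ⟨c, hc'⟩ := hne
    refine hc' ?_
    have h4 := hz (c / B)
    rw [div_mul_cancel₀ _ hne'] at h4
    exact ((CharTwo.add_eq_zero).mp h4).symm
  set y := N *ᵥ x with hy
  have hNy : N *ᵥ y = 0 := by rw [hy, Matrix.mulVec_mulVec, hNN, Matrix.zero_mulVec]
  have hyy : hf s y y = 0 := by rw [hy, hf_adj hs, hstN, Matrix.mulVec_mulVec, hNN, Matrix.zero_mulVec]; simp [hf]
  have hxy : hf s x y ≠ 0 := by
    rw [hf_symm hs]; exact (map_ne_zero s).mpr hx
  set W := Submodule.span K (Set.range ![x, y]) with hW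
  have hxW : x ∈ W := Submodule.subset_span ⟨0, rfl⟩
  have hyW : y ∈ W := Submodule.subset_span ⟨1, rfl⟩
  have hmemW : ∀ w ∈ W, ∃ α β : K, α • x + β • y = w := fun w hw => by
    rw [hW, Matrix.range_cons_cons_empty] at hw
    exact Submodule.mem_span_pair.mp hw
  have hli : LinearIndependent K ![x, y] := by
    rw [LinearIndependent.pair_iff]
    intro α β h
    have h1 : hf s (α • x + β • y) y = 0 := by rw [h, hf_zero_left]
    rw [hf_add_left, hf_smul_left, hf_smul_left, hyy, mul_zero, add_zero] at h1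
    have hα : α = 0 := (mul_eq_zero.mp h1).resolve_right hxy
    refine ⟨hα, ?_⟩
    have h2 : hf s (α • x + β • y) x = 0 := by rw [h, hf_zero_left]
    rw [hα, zero_smul, zero_add, hf_smul_left] at h2
    exact (mul_eq_zero.mp h2).resolve_right hx
  have hWd : finrank K W = 2 := by rw [hW, finrank_span_eq_card hli, Fintype.card_fin]
  have hnd : W ⊓ perp s W = ⊥ := by
    rw [Submodule.eq_bot_iff]
    rintro w ⟨hw, hwp⟩
    obtain ⟨α, β, rfl⟩ := hmemW w hw
    have h1 := hwp y hyW
    rw [hf_add_left, hf_smul_left, hf_smul_left, hyy, mul_zero, add_zero] at h1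
    have hα : α = 0 := (mul_eq_zero.mp h1).resolve_right hxy
    have h2 := hwp x hxW
    rw [hα, zero_smul, zero_add, hf_smul_left] at h2
    rw [hα, (mul_eq_zero.mp h2).resolve_right hx, zero_smul, zero_smul, add_zero]
  have hcompl := isCompl_perp hs W hnd
  have hWinv : ∀ w ∈ W, a *ᵥ w ∈ W := by
    intro w hw
    obtain ⟨α, β, rfl⟩ := hmemW w hw
    rw [haN, Matrix.add_mulVec, Matrix.one_mulVec, Matrix.mulVec_add, Matrix.mulVec_smul, Matrix.mulVec_smul,
      hNy, smul_zero, add_zero]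
    exact W.add_mem hw (W.smul_mem _ hyW)
  have hPinv := perp_inv hs ha hWinv
  obtain ⟨e, he1, he0, heW⟩ := exists_proj hcompl
  have hdec : ∀ v, v - e *ᵥ v ∈ perp s W := by
    intro v
    obtain ⟨p, hp, r, hr, rfl⟩ := Submodule.mem_sup.1 (hcompl.sup_eq_top ▸ Submodule.mem_top : v ∈ W ⊔ perp s W)
    rw [Matrix.mulVec_add, he1 p hp, he0 r hr, add_zero, add_sub_cancel_left]
    exact hr
  have hor : ∀ u ∈ W, ∀ r ∈ perp s W, hf s u r = 0 := fun u hu r hr => by rw [hf_symm hs, hr u hu, map_zero]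
  have hste : st s e = e := by
    refine ext_hf hs fun u v => ?_
    rw [← hf_adj hs]
    have h1 : hf s (e *ᵥ u) v = hf s (e *ᵥ u) (e *ᵥ v) := by
      conv_lhs => rw [← add_sub_cancel (e *ᵥ v) v, hf_add_right, hor _ (heW u) _ (hdec v), add_zero]
    have h2 : hf s u (e *ᵥ v) = hf s (e *ᵥ u) (e *ᵥ v) := by
      conv_lhs => rw [← add_sub_cancel (e *ᵥ u) u, hf_add_left, hdec u _ (heW v), add_zero]
    rw [h1, h2]
  have hee : e * e = e := by
    refine Matrix.toLin'.injective (LinearMap.ext fun v => ?_)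
    simp only [Matrix.toLin'_apply, ← Matrix.mulVec_mulVec, he1 _ (heW v)]
  have hea : e * a = a * e := by
    refine Matrix.toLin'.injective (LinearMap.ext fun v => ?_)
    simp only [Matrix.toLin'_apply, ← Matrix.mulVec_mulVec]
    conv_lhs => rw [← add_sub_cancel (e *ᵥ v) v, Matrix.mulVec_add, Matrix.mulVec_add,
      he1 _ (hWinv _ (heW v)), he0 _ (hPinv _ (hdec v)), add_zero]
  refine ⟨1 + (l - 1) • e, ?_, ?_, ?_⟩
  · have hsm : st s ((l - 1) • e) = (s l - 1) • e := by
      ext i j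
      have := congrFun (congrFun hste i) j
      simp [st] at this ⊢
      rw [this]
      exact Or.inl rfl
    rw [st_add, st_one, hsm, mul_add, add_mul, add_mul, one_mul, one_mul, mul_one, smul_mul_smul_comm, hee,
      add_assoc, ← add_smul, ← add_smul,
      show (s l - 1) + ((l - 1) + (s l - 1) * (l - 1)) = 0 by linear_combination hl, zero_smul, add_zero]
  · rw [add_mul, mul_add, one_mul, mul_one, smul_mul_assoc, mul_smul_comm, hea]
  · have h1 : Matrix.toLin' (1 + (l - 1) • e) =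
        ((Submodule.prodEquivOfIsCompl W (perp s W) hcompl : _ →ₗ[K] (Fin n → K)) ∘ₗ
        (LinearMap.prodMap (l • (1 : Module.End K W)) (1 : Module.End K (perp s W))) ∘ₗ
          ((Submodule.prodEquivOfIsCompl W (perp s W) hcompl).symm : (Fin n → K) →ₗ[K] _)) := by
      refine LinearMap.ext fun v => ?_
      obtain ⟨⟨p, r⟩, rfl⟩ := (Submodule.prodEquivOfIsCompl W (perp s W) hcompl).surjective v
      simp only [LinearMap.comp_apply, LinearEquiv.coe_coe, LinearEquiv.symm_apply_apply]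
      rw [Matrix.toLin'_apply, LinearMap.prodMap_apply, Submodule.coe_prodEquivOfIsCompl',
        Submodule.coe_prodEquivOfIsCompl']
      simp only [LinearMap.smul_apply, Module.End.one_apply, Matrix.add_mulVec, Matrix.smul_mulVec,
        Matrix.one_mulVec, Matrix.mulVec_add, he1 _ p.2, he0 _ r.2, add_zero, Submodule.coe_smul]
      module
    rw [← LinearMap.det_toLin', h1, LinearMap.det_conj, LinearMap.det_prodMap, LinearMap.det_smul, hWd]
    simp [pow_two]

theorem su_involution_conj {F : Type*} [Field F] [Fintype F] [CharP F 2] {n q : ℕ}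
    (hF : Fintype.card F = q ^ 2) (hn : 3 ≤ n) (a b : ↥(Cfsg.SU n F q)) (ha : orderOf a = 2) (hb : orderOf b = 2) :
    (IsConj a b ↔ IsConj (a : Matrix.SpecialLinearGroup (Fin n) F) (b : Matrix.SpecialLinearGroup (Fin n) F)) ∧
    (IsConj a b ↔ (((a : Matrix.SpecialLinearGroup (Fin n) F) : Matrix (Fin n) (Fin n) F) - 1).rank =
      (((b : Matrix.SpecialLinearGroup (Fin n) F) : Matrix (Fin n) (Fin n) F) - 1).rank) := by
  classical
  have ha' : orderOf (a : Matrix.SpecialLinearGroup (Fin n) F) = 2 := by rw [Subgroup.orderOf_coe, ha]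
  have hb' : orderOf (b : Matrix.SpecialLinearGroup (Fin n) F) = 2 := by rw [Subgroup.orderOf_coe, hb]
  have hSL := Cfsg.Agent.S2162.result hn (a : Matrix.SpecialLinearGroup (Fin n) F)
    (b : Matrix.SpecialLinearGroup (Fin n) F) ha' hb'
  suffices h : IsConj a b ↔ IsConj (a : Matrix.SpecialLinearGroup (Fin n) F)
      (b : Matrix.SpecialLinearGroup (Fin n) F) from ⟨h, h.trans hSL⟩
  refine ⟨fun h => MonoidHom.map_isConj (Cfsg.SU n F q).subtype h, fun h => ?_⟩
  obtain ⟨hq, σ, hσ⟩ := UnitaryBasic.frob_exists hF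
  have hσ2 : ∀ x, σ (σ x) = x := fun x => by rw [hσ, hσ, ← pow_mul, ← sq, ← hF, FiniteField.pow_card]
  have hne : ∃ c, σ c ≠ c := by
    obtain ⟨ζ, hζ⟩ := UnitaryBasic.exists_zeta hF
    refine ⟨ζ, fun he => ?_⟩
    rw [hσ] at he
    have h1 : ζ ^ (q - 1) = 1 := Units.ext (by
      have h2 : (ζ : F) ^ (q - 1) * ζ = 1 * ζ := by rw [← pow_succ, Nat.sub_add_cancel (by omega), he, one_mul]
      simpa using mul_right_cancel₀ ζ.ne_zero h2)
    have h3 := Nat.le_of_dvd (by omega) (hζ ▸ orderOf_dvd_of_pow_eq_one h1)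
    omega
  have hqe : Even q := by
    haveI : Fact (Nat.Prime 2) := ⟨Nat.prime_two⟩
    have h := FiniteField.even_card_of_char_two (ringChar.eq F 2)
    rcases Nat.even_or_odd q with he | ho
    · exact he
    · have := (ho.pow (n := 2))
      rw [← hF, Nat.odd_iff] at this
      omega
  have hform : ∀ u v : Fin n → F, Cfsg.hermForm n F q u v = hf σ u v := fun u v => by
    simp [Cfsg.hermForm, hf, dotProduct, hσ]
  have mem_iff : ∀ x : GL (Fin n) F, x ∈ Cfsg.GU n F q ↔ st σ x.1 * x.1 = 1 := by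
    intro x
    constructor
    · intro hx
      refine ext_hf hσ2 fun u v => ?_
      rw [← Matrix.mulVec_mulVec, ← hf_adj hσ2, Matrix.one_mulVec, ← hform, ← hform]
      exact hx u v
    · intro hx u v
      show Cfsg.hermForm n F q (x.1 *ᵥ u) (x.1 *ᵥ v) = Cfsg.hermForm n F q u v
      rw [hform, hform, hf_map hσ2 hx]
  let ι : ↥(Cfsg.SU n F q) →* ↥(Cfsg.GU n F q) :=
    { toFun := fun x => ⟨Matrix.SpecialLinearGroup.toGL x.1, fun u v => x.2 u v⟩
      map_one' := Subtype.ext (map_one Matrix.SpecialLinearGroup.toGL)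
      map_mul' := fun x y => Subtype.ext (map_mul Matrix.SpecialLinearGroup.toGL x.1 y.1) }
  obtain ⟨k, hk⟩ := _root_.isConj_iff.1 (UnitaryConj.isConj_GU hF (ι a) (ι b)
    (MonoidHom.map_isConj Matrix.SpecialLinearGroup.toGL h))
  set δ := Matrix.GeneralLinearGroup.det k.1 with hδdef
  have hδ : δ⁻¹ ^ (q + 1) = 1 := by rw [inv_pow, UnitaryBasic.det_pow hF k.2, inv_one]
  set μ : Fˣ := δ⁻¹ ^ ((q + 2) / 2) with hμdef
  have hμ2 : μ * μ = δ⁻¹ := by
    rw [hμdef, ← pow_add, show (q + 2) / 2 + (q + 2) / 2 = q + 1 + 1 by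
      obtain ⟨t, ht⟩ := hqe; omega, pow_succ, hδ, one_mul]
  have hμ : σ (μ : F) * μ = 1 := by
    rw [hσ, ← pow_succ, ← Units.val_pow_eq_pow_val, hμdef, ← pow_mul, mul_comm, pow_mul, hδ, one_pow, Units.val_one]
  have ha2 : a.1.1 * a.1.1 = 1 := by
    have h2 : a * a = 1 := by rw [← pow_two, ← ha, pow_orderOf_eq_one]
    exact congrArg (fun x : ↥(Cfsg.SU n F q) => x.1.1) h2
  have ha1 : a.1.1 ≠ 1 := fun e => by
    have : a = 1 := Subtype.ext (Subtype.ext e)
    rw [this, orderOf_one] at ha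
    omega
  obtain ⟨z, hz, hza, hzd⟩ := exists_det_involution hσ2 hne (a := a.1.1) ((mem_iff _).1 (ι a).2) ha2 ha1 μ hμ
  have hzd' : z.det = ((δ⁻¹ : Fˣ) : F) := by rw [hzd, ← Units.val_mul, hμ2]
  let zg : GL (Fin n) F := Matrix.GeneralLinearGroup.mkOfDetNeZero z (by rw [hzd']; exact Units.ne_zero _)
  have hzmem : zg ∈ Cfsg.GU n F q := (mem_iff _).2 hz
  let kz : ↥(Cfsg.GU n F q) := k * ⟨zg, hzmem⟩
  have hdet : kz.1.1.det = 1 := by
    show (k.1.1 * z).det = 1
    rw [Matrix.det_mul, hzd', show k.1.1.det = (δ : F) from rfl, ← Units.val_mul, mul_inv_cancel, Units.val_one]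
  let kS : ↥(Cfsg.SU n F q) := ⟨⟨kz.1.1, hdet⟩, fun u v => kz.2 u v⟩
  refine _root_.isConj_iff.2 ⟨kS, ?_⟩
  rw [mul_inv_eq_iff_eq_mul] at hk ⊢
  refine Subtype.ext (Subtype.ext ?_)
  show k.1.1 * z * a.1.1 = b.1.1 * (k.1.1 * z)
  rw [mul_assoc, hza, ← mul_assoc, ← mul_assoc]
  congr 1
  exact congrArg (fun w : ↥(Cfsg.GU n F q) => w.1.1) hk

end CfsgLib.SemisimpleUnitary
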